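import Mathlib.AlgebraicGeometry.Morphisms.FormallyUnramified
import Mathlib.AlgebraicGeometry.Morphisms.FiniteType
import Mathlib.AlgebraicGeometry.Morphisms.ClosedImmersion
import Mathlib.AlgebraicGeometry.ResidueField
import Mathlib.AlgebraicGeometry.Limits
import Mathlib.RingTheory.Unramified.Field
import Mathlib.RingTheory.Artinian.Ring
import Mathlib.RingTheory.Artinian.Module
import Mathlib.RingTheory.Spectrum.Prime.Topology

/-! Schemes unramified over a field = coproducts of spectra of finite separable extensions. -/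

universe u

open CategoryTheory CategoryTheory.Limits AlgebraicGeometry TopologicalSpace

namespace Groth.Agent.Unr57

/-- `∐ Spec Kᵢ ⟶ Spec k` is formally unramified when all `Kᵢ/k` are finite separable. -/
lemma formallyUnramified_of_iso_sigma {k : CommRingCat.{u}} {X : Scheme.{u}} (f : X ⟶ Spec k)
    {ι : Type u} (K : ι → CommRingCat.{u}) (φ : ∀ i, k ⟶ K i) (hK : ∀ i, (φ i).hom.FormallyUnramified)
    (e : X ≅ ∐ (fun i => Spec (K i))) (he : e.hom ≫ Sigma.desc (fun i => Spec.map (φ i)) = f) :
    FormallyUnramified f := by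
  have : FormallyUnramified (Sigma.desc (fun i => Spec.map (φ i))) := by
    haveI : IsZariskiLocalAtSource @FormallyUnramified.{u} :=
      HasRingHomProperty.instIsZariskiLocalAtSource (P := @FormallyUnramified.{u}) (Q := RingHom.FormallyUnramified)
    rw [IsZariskiLocalAtSource.iff_of_openCover (P := @FormallyUnramified.{u}) (sigmaOpenCover _)]
    have key : ∀ i : ι, FormallyUnramified (Sigma.ι (fun i => Spec (K i)) i ≫ Sigma.desc (fun i => Spec.map (φ i))) := by
      intro i
      rw [Sigma.ι_desc, HasRingHomProperty.Spec_iff (P := @FormallyUnramified)]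
      exact hK i
    exact key
  rw [← he]
  exact MorphismProperty.comp_mem @FormallyUnramified.{u} _ _ inferInstance this

lemma formallyUnramified_algebraMap (k K : Type u) [Field k] [Field K] [Algebra k K]
    [FiniteDimensional k K] [Algebra.IsSeparable k K] : (algebraMap k K).FormallyUnramified :=
  RingHom.formallyUnramified_algebraMap.2 ((Algebra.FormallyUnramified.iff_isSeparable k K).2 inferInstance)

variable {k : Type u} [Field k] {X : Scheme.{u}} (f : X ⟶ Spec (CommRingCat.of k))

lemma spec_props (A : CommRingCat.{u}) (φ : CommRingCat.of k ⟶ A)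
    (hft : φ.hom.FiniteType) (hu : φ.hom.FormallyUnramified) :
    IsReduced (Spec A) ∧ DiscreteTopology ↥(Spec A) := by
  algebraize [φ.hom]
  haveI : Module.Finite k A := Algebra.FormallyUnramified.finite_of_free (R := k) (S := A)
  haveI : _root_.IsReduced A := Algebra.FormallyUnramified.isReduced_of_field k A
  haveI : IsArtinianRing A := IsArtinianRing.of_finite k A
  exact ⟨inferInstance, inferInstanceAs (DiscreteTopology (PrimeSpectrum A))⟩

/-- Unramified over a field: reduced and discrete. -/
lemma isReduced_and_discrete [FormallyUnramified f] [LocallyOfFiniteType f] :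
    IsReduced X ∧ DiscreteTopology ↥X := by
  have hch : ∀ (A : CommRingCat.{u}) (j : Spec A ⟶ X), IsOpenImmersion j →
      IsReduced (Spec A) ∧ DiscreteTopology ↥(Spec A) := by
    intro A j hj
    have h1 : LocallyOfFiniteType (j ≫ f) := inferInstance
    have h2 : FormallyUnramified (j ≫ f) :=
      MorphismProperty.comp_mem @FormallyUnramified.{u} _ _ inferInstance ‹_›
    obtain ⟨φ, hφ⟩ := Spec.map_surjective (j ≫ f)
    rw [← hφ] at h1 h2
    rw [HasRingHomProperty.Spec_iff (P := @LocallyOfFiniteType)] at h1
    rw [HasRingHomProperty.Spec_iff (P := @FormallyUnramified)] at h2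
    exact spec_props A φ h1 h2
  have hloc : ∀ x : X, ∃ U : X.Opens, x ∈ U ∧ IsReduced (U : Scheme.{u}) ∧ DiscreteTopology ↥U := by
    intro x
    obtain ⟨_, ⟨U, hU, rfl⟩, hxU, -⟩ :=
      X.isBasis_affineOpens.exists_subset_of_mem_open (Set.mem_univ x) isOpen_univ
    replace hU : IsAffineOpen U := hU
    obtain ⟨h1, h2⟩ := hch Γ(X, U) hU.fromSpec inferInstance
    exact ⟨U, hxU, isReduced_of_isOpenImmersion hU.isoSpec.hom,
      (Scheme.homeoOfIso hU.isoSpec).isEmbedding.discreteTopology⟩
  choose U hxU hred hdisc using hloc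
  refine ⟨?_, discreteTopology_iff_isOpen_singleton.2 fun x => ?_⟩
  · let 𝒰 := X.openCoverOfIsOpenCover U (eq_top_iff.2 fun x _ => Opens.mem_iSup.2 ⟨x, hxU x⟩)
    haveI : ∀ i, IsReduced (𝒰.X i) := fun i => hred i
    exact IsReduced.of_openCover X 𝒰
  · haveI := hdisc x
    have h := (U x).2.isOpenMap_subtype_val {⟨x, hxU x⟩} (isOpen_discrete _)
    rwa [Set.image_singleton] at h

/-- On a reduced scheme, an isolated point gives an open immersion of its residue field spectrum. -/
lemma isOpenImmersion_fromSpecResidueField [IsReduced X] (x : X) (hx : IsOpen ({x} : Set X)) :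
    IsOpenImmersion (X.fromSpecResidueField x) := by
  let U : X.Opens := ⟨{x}, hx⟩
  have hr : Set.range (X.fromSpecResidueField x) ⊆ Set.range U.ι := by
    rw [Scheme.range_fromSpecResidueField, Scheme.Opens.range_ι]; rfl
  let g := IsOpenImmersion.lift U.ι (X.fromSpecResidueField x) hr
  have hg : g ≫ U.ι = X.fromSpecResidueField x := IsOpenImmersion.lift_fac _ _ _
  haveI : IsPreimmersion (g ≫ U.ι) := by rw [hg]; infer_instance
  haveI : IsPreimmersion g := IsPreimmersion.of_comp g U.ι
  haveI hs : Surjective g := ⟨fun u => ⟨IsLocalRing.closedPoint _, Subtype.ext ((u.2 : u.1 = x).symm ▸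
    ((congr(($hg) (IsLocalRing.closedPoint _))).trans (Scheme.fromSpecResidueField_apply _ _)))⟩⟩
  haveI : IsClosedImmersion g := IsClosedImmersion.of_isPreimmersion g (by rw [hs.surj.range_eq]; exact isClosed_univ)
  haveI : IsIso g := isIso_of_isClosedImmersion_of_surjective g
  rw [← hg]; infer_instance

/-- A scheme unramified over a field is a coproduct of spectra of finite separable extensions. -/
lemma exists_iso_sigma [FormallyUnramified f] [LocallyOfFiniteType f] :
    ∃ (ι : Type u) (K : ι → Type u) (_ : ∀ i, Field (K i)) (_ : ∀ i, Algebra k (K i)),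
      (∀ i, FiniteDimensional k (K i) ∧ Algebra.IsSeparable k (K i)) ∧
      ∃ e : X ≅ ∐ (fun i => Spec (CommRingCat.of (K i))),
        e.hom ≫ Sigma.desc (fun i => Spec.map (CommRingCat.ofHom (algebraMap k (K i)))) = f := by
  obtain ⟨hred, hdisc⟩ := isReduced_and_discrete f
  let j := fun x : X => X.fromSpecResidueField x
  haveI : ∀ x, IsOpenImmersion (j x) := fun x => isOpenImmersion_fromSpecResidueField x (isOpen_discrete _)
  choose φ hφ using fun x : X => Spec.map_surjective (j x ≫ f)
  letI alg : ∀ x, Algebra k (X.residueField x) := fun x => (φ x).hom.toAlgebra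
  refine ⟨X, fun x => X.residueField x, fun x => inferInstance, alg, fun x => ?_, ?_⟩
  · have h1 : LocallyOfFiniteType (Spec.map (φ x)) := by rw [hφ]; infer_instance
    have h2 : FormallyUnramified (Spec.map (φ x)) := by
      rw [hφ]; exact MorphismProperty.comp_mem @FormallyUnramified.{u} _ _ inferInstance ‹_›
    rw [HasRingHomProperty.Spec_iff (P := @LocallyOfFiniteType)] at h1
    rw [HasRingHomProperty.Spec_iff (P := @FormallyUnramified)] at h2
    haveI : Algebra.FiniteType k (X.residueField x) := h1
    haveI : Algebra.FormallyUnramified k (X.residueField x) := h2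
    exact ⟨Algebra.FormallyUnramified.finite_of_free (R := k) (S := X.residueField x),
      (Algebra.FormallyUnramified.iff_isSeparable k _).1 inferInstance⟩
  · have hr : ∀ x, ((j x).opensRange : Set X) = {x} := fun x => Scheme.range_fromSpecResidueField x
    obtain ⟨hc⟩ := nonempty_isColimit_cofanMk_of j
      (eq_top_iff.2 fun x _ => Opens.mem_iSup.2 ⟨x, (hr x).ge rfl⟩)
      (fun x y hxy => by
        rw [Function.onFun, ← Opens.coe_disjoint, hr, hr]
        exact Set.disjoint_singleton.2 hxy)
    refine ⟨hc.coconePointUniqueUpToIso (coproductIsCoproduct _), hc.hom_ext fun ⟨x⟩ => ?_⟩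
    rw [hc.comp_coconePointUniqueUpToIso_hom_assoc]
    exact (Sigma.ι_desc _ x).trans (hφ x)

end Groth.Agent.Unr57
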